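/-!
# Tables for the extension of `M23` by the cocode: the loop, two lifts, and a certificate
-/

set_option autoImplicit false

namespace Cfsg.Agent.TwoGroups.GolayExtension

/-- The quadratic forms of the loop. -/
def loopTab : List (List Nat) := [[0, 0, 0, 4, 0, 2, 52, 40, 254, 262, 282, 912], [0, 0, 0, 4, 8, 29, 48, 96, 49, 101, 169, 420], [0, 0, 0, 3, 0, 18, 17, 0, 161, 507, 664, 706], [0, 0, 3, 0, 2, 2, 16, 17, 97, 68, 1015, 1696], [0, 0, 0, 2, 0, 6, 47, 72, 67, 452, 77, 225], [0, 3, 2, 2, 6, 0, 19, 3, 15, 134, 586, 154], [0, 0, 1, 0, 31, 19, 0, 18, 153, 30, 56, 1172], [0, 0, 0, 1, 8, 3, 18, 0, 69, 52, 14, 1919], [1, 1, 1, 1, 3, 15, 25, 69, 0, 21, 521, 1155], [0, 1, 7, 4, 4, 6, 30, 52, 21, 0, 300, 141], [0, 1, 0, 15, 13, 10, 56, 14, 9, 300, 0, 456], [0, 0, 2, 0, 1, 26, 20, 255, 131, 141, 456, 0]]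

/-- The matrices of the two generators on the code. -/
def genMat : Bool → List Nat
  | false => [3, 5, 9, 17, 32, 64, 129, 256, 512, 1025, 2048, 1]
  | true => [2321, 768, 1872, 2840, 3844, 3600, 18, 3376, 1552, 3072, 1408, 2560]

/-- The quadratic forms of the two lifts. -/
def genQuad : Bool → List Nat
  | false => [0, 0, 2, 0, 0, 0, 20, 0, 0, 13, 0, 128]
  | true => [0, 0, 0, 3, 12, 26, 23, 108, 149, 147, 378, 1049]

/-- Code words with a single high bit. -/
def highTab : List Nat := [1183, 2366, 1763, 3526, 3859, 2745, 493, 986, 1972, 3944, 2639, 3189]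

/-- Closed words with starting code words. -/
def certTab : List (List Bool × Nat) :=
  [([false, false, true, false, false, true, false, false, true, false, false, true, false, false, true, false, false, true, false, false, true], 128),
   ([false, false, false, true, true, true, false, true, false, false, true, false, false, false, true, true, true, false, true, false, false, true], 2),
   ([false, true, false, true, false, true, false, true, false, true, false, true], 8),
   ([false, true, true, false, true, true, false, true, true, false, true, true, false, true, true], 7),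
   ([true, true, true, true, true], 8)]

end Cfsg.Agent.TwoGroups.GolayExtension
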