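import Mathlib
import Cfsg.Agent.Golay.Perms
import Cfsg.Agent.TwoGroups.GolayExtension.Data

/-!
# The code in coordinates and the factor set of the loop

`word` parametrises the binary code of length 24 by twelve coordinates; `theta` is the factor set
of the loop extension, linear in its second argument and quadratic in the first.
-/

set_option autoImplicit false
set_option maxRecDepth 20000

open Cfsg Cfsg.Agent.Golay

namespace Cfsg.Agent.TwoGroups.GolayExtension

/-- Coordinates for the code. -/
abbrev Coord : Type := Fin 12 → ZMod 2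

/-- A bit as a scalar. -/
def bit (n k : ℕ) : ZMod 2 := if n.testBit k then 1 else 0

/-- The coordinates of a number. -/
def vec (n : ℕ) : Coord := fun k => bit n k

theorem bit_xor (a b k : ℕ) : bit (a ^^^ b) k = bit a k + bit b k := by
  simp only [bit, Nat.testBit_xor]
  cases a.testBit k <;> cases b.testBit k <;> decide

theorem vec_xor (a b : ℕ) : vec (a ^^^ b) = vec a + vec b := funext fun k => bit_xor a b k

theorem vec_zero : vec 0 = 0 := funext fun k => by simp [vec, bit]

theorem wordOf_apply (n : ℕ) (p : GolayPt) : wordOf n p = bit n (idx p) := rfl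

theorem wordOf_xor (a b : ℕ) : wordOf (a ^^^ b) = wordOf a + wordOf b :=
  funext fun p => bit_xor a b (idx p)

/-- Two functions turning `^^^` into `+` and agreeing on powers of two agree below `2 ^ 12`. -/
theorem eq_of_powers {A : Type*} [AddGroup A] {f g : ℕ → A}
    (hf : ∀ a b, f (a ^^^ b) = f a + f b) (hg : ∀ a b, g (a ^^^ b) = g a + g b)
    (h : ∀ k < 12, f (2 ^ k) = g (2 ^ k)) {n : ℕ} (hn : n < 4096) : f n = g n := by
  have hf0 : f 0 = 0 := by have := hf 0 0; simpa using this.symm
  have hg0 : g 0 = 0 := by have := hg 0 0; simpa using this.symm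
  suffices H : ∀ j ≤ 12, ∀ m < 2 ^ j, f m = g m from H 12 le_rfl n hn
  intro j
  induction j with
  | zero =>
    intro _ m hm
    obtain rfl : m = 0 := by simpa using hm
    rw [hf0, hg0]
  | succ j ih =>
    intro hj m hm
    rcases lt_or_ge m (2 ^ j) with h1 | h1
    · exact ih (by omega) m h1
    · have e : m = (m ^^^ 2 ^ j) ^^^ 2 ^ j := by rw [Nat.xor_assoc, Nat.xor_self, Nat.xor_zero]
      have hb : m.testBit j = true := by
        rw [Nat.testBit_eq_decide_div_mod_eq, decide_eq_true_eq,
          (Nat.div_eq_of_lt_le (k := 1) (by omega) (by rw [pow_succ] at hm; omega) : m / 2 ^ j = 1)]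
      have hlt : m ^^^ 2 ^ j < 2 ^ j := by
        refine Nat.lt_pow_two_of_testBit _ fun i hi => ?_
        rw [Nat.testBit_xor, Nat.testBit_two_pow]
        rcases eq_or_lt_of_le hi with rfl | hlt
        · simp [hb]
        · rw [Nat.testBit_lt_two_pow (lt_of_lt_of_le hm (Nat.pow_le_pow_right (by norm_num) hlt))]
          simp; omega
      rw [e, hf, hg, ih (by omega) _ hlt, h j (by omega)]

/-- Two additive functions on coordinates agreeing on the unit vectors agree. -/
theorem eq_of_units {A : Type*} [AddCommGroup A] {f g : Coord → A}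
    (hf : ∀ a b, f (a + b) = f a + f b) (hg : ∀ a b, g (a + b) = g a + g b)
    (h : ∀ k : Fin 12, f (Pi.single k 1) = g (Pi.single k 1)) (v : Coord) : f v = g v := by
  have e : AddMonoidHom.mk' f hf = AddMonoidHom.mk' g hg := by
    refine AddMonoidHom.functions_ext _ _ _ fun k x => ?_
    fin_cases x
    · show f (Pi.single k 0) = g (Pi.single k 0)
      rw [Pi.single_zero]
      exact (map_zero (AddMonoidHom.mk' f hf)).trans (map_zero (AddMonoidHom.mk' g hg)).symm
    · exact h k
  exact DFunLike.congr_fun e v

theorem vec_pow (k : Fin 12) : vec (2 ^ (k : ℕ)) = Pi.single k 1 := by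
  revert k; decide +kernel

/-- The code word with given coordinates. -/
def word (v : Coord) : GolayPt → ZMod 2 := fun p => ∑ k : Fin 12, v k * bit (rows.getD k 0) (idx p)

theorem word_add (a b : Coord) : word (a + b) = word a + word b := funext fun p => by
  simp only [word, Pi.add_apply, add_mul, Finset.sum_add_distrib]

theorem word_zero : word 0 = 0 := funext fun p => by simp [word]

theorem word_basis : ∀ k < 12, word (vec (2 ^ k)) = wordOf (encode (2 ^ k)) := by decide +kernel

theorem word_vec {n : ℕ} (hn : n < 4096) : word (vec n) = wordOf (encode n) :=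
  eq_of_powers (f := fun n => word (vec n)) (g := fun n => wordOf (encode n))
    (fun a b => by simp only [vec_xor, word_add])
    (fun a b => by simp only [encode, encAux_xor, wordOf_xor]) word_basis hn

theorem word_low : ∀ (k : Fin 12) (i : Fin 12), word (Pi.single k 1) (pt i) = if k = i then 1 else 0 := by
  decide +kernel

theorem word_pt (v : Coord) (i : Fin 12) : word v (pt i) = v i :=
  eq_of_units (f := fun v => word v (pt i)) (g := fun v : Coord => v i)
    (fun a b => by simp only [word_add, Pi.add_apply]) (fun a b => rfl)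
    (fun k => by
      rw [word_low, Pi.single_apply]
      exact if_congr eq_comm rfl rfl) v

theorem word_injective : Function.Injective word := fun a b h => funext fun i => by
  rw [← word_pt a, ← word_pt b, h]

theorem exists_vec (v : Coord) : ∃ n < 4096, vec n = v := by
  have key : Function.Injective fun n : Fin 4096 => vec n := by
    intro a b h
    refine Fin.ext (Nat.eq_of_testBit_eq fun i => ?_)
    rcases lt_or_ge i 12 with hi | hi
    · have := congrFun h ⟨i, hi⟩
      simp only [vec, bit] at this
      cases ha : (a : ℕ).testBit i <;> cases hb : (b : ℕ).testBit i <;> simp [ha, hb] at this ⊢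
    · have h2 : (4096 : ℕ) ≤ 2 ^ i := by
        calc (4096 : ℕ) = 2 ^ 12 := by norm_num
          _ ≤ 2 ^ i := Nat.pow_le_pow_right (by norm_num) hi
      rw [Nat.testBit_lt_two_pow (lt_of_lt_of_le a.2 h2),
        Nat.testBit_lt_two_pow (lt_of_lt_of_le b.2 h2)]
  obtain ⟨n, hn⟩ := ((Fintype.bijective_iff_injective_and_card _).2 ⟨key, by simp⟩).2 v
  exact ⟨n, n.2, hn⟩

theorem word_mem (v : Coord) : word v ∈ golayCode := by
  obtain ⟨n, hn, rfl⟩ := exists_vec v
  rw [word_vec hn]
  exact wordOf_encode_mem n

theorem exists_word {w : GolayPt → ZMod 2} (hw : w ∈ golayCode) : ∃ v, word v = w := by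
  obtain ⟨n, hn, e⟩ := inC_eq_encode (mem_golayCode_iff.1 hw)
  refine ⟨vec n, ?_⟩
  rw [word_vec hn, e]
  funext p
  show (if (mask (support₂ w)).testBit (idx p) then (1 : ZMod 2) else 0) = w p
  rw [testBit_mask]
  simp only [decide_eq_true_eq, support₂, Finset.mem_filter, Finset.mem_univ, true_and]
  rcases (show w p = 0 ∨ w p = 1 from by generalize w p = x; revert x; decide) with h | h <;> simp [h]

/-- The inner product of two words. -/
def dot (w u : GolayPt → ZMod 2) : ZMod 2 := ∑ p, w p * u p

theorem dot_add_left (a b u : GolayPt → ZMod 2) : dot (a + b) u = dot a u + dot b u := by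
  simp only [dot, Pi.add_apply, add_mul, Finset.sum_add_distrib]

theorem dot_add_right (a b u : GolayPt → ZMod 2) : dot u (a + b) = dot u a + dot u b := by
  simp only [dot, Pi.add_apply, mul_add, Finset.sum_add_distrib]

theorem high_ok : ∀ (i : Fin 12) (p : GolayPt), word (vec (highTab.getD i 0)) p =
    if 12 ≤ idx p then (if idx p = i + 12 then 1 else 0) else word (vec (highTab.getD i 0)) p := by
  decide +kernel

/-- The code contains its orthogonal. -/
theorem mem_code_of_orth {w : GolayPt → ZMod 2} (h : ∀ v, dot w (word v) = 0) : w ∈ golayCode := by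
  set v : Coord := fun i => w (pt i)
  have hu : w = word v := by
    funext p
    set u := w + word v with hu
    have hlow : ∀ i : Fin 12, u (pt i) = 0 := fun i => by
      simp only [hu, Pi.add_apply, word_pt, v]
      exact CharTwo.add_self_eq_zero _
    have horth : ∀ a, dot u (word a) = 0 := fun a => by
      rw [hu, dot_add_left, h]
      simp only [zero_add, dot]
      exact self_orthogonal (word_mem v) (word_mem a)
    suffices u p = 0 by
      simp only [hu, Pi.add_apply] at this
      exact CharTwo.add_eq_zero.1 this
    rcases lt_or_ge (idx p) 12 with hp | hp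
    · simpa [pt_idx] using hlow ⟨idx p, hp⟩
    · have hp2 := idx_lt p
      set i : Fin 12 := ⟨idx p - 12, by omega⟩ with hi
      have h0 := horth (vec (highTab.getD i 0))
      rw [dot, Finset.sum_eq_single p] at h0
      · rw [high_ok, if_pos hp, if_pos (by simp [hi]; omega), mul_one] at h0
        exact h0
      · intro q _ hq
        rcases lt_or_ge (idx q) 12 with hq2 | hq2
        · have := hlow ⟨idx q, hq2⟩
          simp only [pt_idx] at this
          rw [this, zero_mul]
        · rw [high_ok, if_pos hq2, if_neg, mul_zero]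
          intro e
          exact hq (idx_injective (by simp [hi] at e; omega))
      · simp
  exact hu ▸ word_mem v

/-- A quadratic form given by twelve masks. -/
def quad (ms : List ℕ) (v : Coord) : ZMod 2 :=
  ∑ l : Fin 12, ∑ m : Fin 12, v l * v m * bit (ms.getD l 0) m

/-- The polar form of `quad`. -/
def polar (ms : List ℕ) (a b : Coord) : ZMod 2 :=
  ∑ l : Fin 12, ∑ m : Fin 12, (a l * b m + b l * a m) * bit (ms.getD l 0) m

theorem quad_add (ms : List ℕ) (a b : Coord) :
    quad ms (a + b) = quad ms a + quad ms b + polar ms a b := by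
  simp only [quad, polar, ← Finset.sum_add_distrib, Pi.add_apply]
  refine Finset.sum_congr rfl fun l _ => Finset.sum_congr rfl fun m _ => ?_
  ring

theorem polar_add_left (ms : List ℕ) (a a' b : Coord) :
    polar ms (a + a') b = polar ms a b + polar ms a' b := by
  simp only [polar, ← Finset.sum_add_distrib, Pi.add_apply]
  refine Finset.sum_congr rfl fun l _ => Finset.sum_congr rfl fun m _ => ?_
  ring

theorem polar_add_right (ms : List ℕ) (a b b' : Coord) :
    polar ms a (b + b') = polar ms a b + polar ms a b' := by
  simp only [polar, ← Finset.sum_add_distrib, Pi.add_apply]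
  refine Finset.sum_congr rfl fun l _ => Finset.sum_congr rfl fun m _ => ?_
  ring

/-- The factor set of the loop. -/
def theta (a b : Coord) : ZMod 2 := ∑ k : Fin 12, b k * quad (loopTab.getD k []) a

theorem theta_add_right (a b b' : Coord) : theta a (b + b') = theta a b + theta a b' := by
  simp only [theta, ← Finset.sum_add_distrib, Pi.add_apply, add_mul]

theorem theta_zero_right (a : Coord) : theta a 0 = 0 := by simp [theta]

/-- The second difference of `theta`. -/
def theta3 (a b c : Coord) : ZMod 2 := ∑ k : Fin 12, c k * polar (loopTab.getD k []) a b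

theorem theta_add_left (a a' b : Coord) :
    theta (a + a') b = theta a b + theta a' b + theta3 a a' b := by
  simp only [theta, theta3, quad_add, mul_add, Finset.sum_add_distrib]

/-- The size of a triple intersection. -/
def trip (u v w : GolayPt → ZMod 2) : ZMod 2 := ∑ p, u p * v p * w p

theorem trip_basis : ∀ i j k : Fin 12, (pc (encode (2 ^ (i : ℕ)) &&& encode (2 ^ (j : ℕ)) &&&
    encode (2 ^ (k : ℕ))) % 2 == 1) = (bit ((loopTab.getD k []).getD i 0) j +
      bit ((loopTab.getD k []).getD j 0) i == 1) := by
  decide +kernel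

theorem wordOf_sum (n : ℕ) (hn : n < 2 ^ 24) : ∑ p, wordOf n p = (pc n : ZMod 2) := by
  simp only [wordOf, Finset.sum_boole]
  rw [← card_bset]
  rfl

theorem polar_single (ms : List ℕ) (i j : Fin 12) :
    polar ms (Pi.single i 1) (Pi.single j 1) = bit (ms.getD i 0) j + bit (ms.getD j 0) i := by
  simp [polar, Pi.single_apply, add_mul, Finset.sum_add_distrib]

theorem theta3_units (i j k : Fin 12) :
    theta3 (Pi.single i 1) (Pi.single j 1) (Pi.single k 1) =
      trip (word (Pi.single i 1)) (word (Pi.single j 1)) (word (Pi.single k 1)) := by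
  have e : theta3 (Pi.single i 1) (Pi.single j 1) (Pi.single k 1) =
      bit ((loopTab.getD k []).getD i 0) j + bit ((loopTab.getD k []).getD j 0) i := by
    rw [theta3, Finset.sum_eq_single k (fun x _ hx => by simp [hx]) (by simp), Pi.single_eq_same,
      one_mul, polar_single]
  rw [e, ← vec_pow, ← vec_pow, ← vec_pow, word_vec (Nat.pow_lt_pow_right (by norm_num) (Fin.is_lt _) : 2 ^ _ < 2 ^ 12), word_vec (Nat.pow_lt_pow_right (by norm_num) (Fin.is_lt _) : 2 ^ _ < 2 ^ 12),
    word_vec (Nat.pow_lt_pow_right (by norm_num) (Fin.is_lt _) : 2 ^ _ < 2 ^ 12)]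
  have e2 : ∀ x y z : ℕ, trip (wordOf x) (wordOf y) (wordOf z) = ∑ p, wordOf (x &&& y &&& z) p :=
    fun x y z => Finset.sum_congr rfl fun p _ => by
      simp only [wordOf, Nat.testBit_and]
      cases x.testBit (idx p) <;> cases y.testBit (idx p) <;> cases z.testBit (idx p) <;> simp
  rw [e2, wordOf_sum _ (lt_of_le_of_lt Nat.and_le_right (encode_lt _))]
  have h := trip_basis i j k
  revert h
  generalize bit ((loopTab.getD k []).getD i 0) j + bit ((loopTab.getD k []).getD j 0) i = x
  intro h
  rw [← ZMod.natCast_mod (pc _)]
  revert h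
  rcases Nat.mod_two_eq_zero_or_one (pc (encode (2 ^ (i : ℕ)) &&& encode (2 ^ (j : ℕ)) &&&
    encode (2 ^ (k : ℕ)))) with h2 | h2 <;> rw [h2] <;> revert x <;> decide

theorem trip_add₁ (a a' b c : GolayPt → ZMod 2) : trip (a + a') b c = trip a b c + trip a' b c := by
  simp only [trip, Pi.add_apply, add_mul, Finset.sum_add_distrib]

theorem trip_add₂ (a b b' c : GolayPt → ZMod 2) : trip a (b + b') c = trip a b c + trip a b' c := by
  simp only [trip, Pi.add_apply, mul_add, add_mul, Finset.sum_add_distrib]

theorem trip_add₃ (a b c c' : GolayPt → ZMod 2) : trip a b (c + c') = trip a b c + trip a b c' := by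
  simp only [trip, Pi.add_apply, mul_add, Finset.sum_add_distrib]

theorem theta3_eq (a b c : Coord) : theta3 a b c = trip (word a) (word b) (word c) := by
  have h3 : ∀ a b : Coord, ∀ c c', theta3 a b (c + c') = theta3 a b c + theta3 a b c' := fun a b c c' => by
    simp only [theta3, Pi.add_apply, add_mul, Finset.sum_add_distrib]
  have h2 : ∀ a b b' c, theta3 a (b + b') c = theta3 a b c + theta3 a b' c := fun a b b' c => by
    simp only [theta3, polar_add_right, mul_add, Finset.sum_add_distrib]
  have h1 : ∀ a a' b c, theta3 (a + a') b c = theta3 a b c + theta3 a' b c := fun a a' b c => by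
    simp only [theta3, polar_add_left, mul_add, Finset.sum_add_distrib]
  refine eq_of_units (f := fun a => theta3 a b c) (g := fun a => trip (word a) (word b) (word c))
    (fun x y => h1 x y b c) (fun x y => by simp only [word_add, trip_add₁]) (fun i => ?_) a
  refine eq_of_units (f := fun b => theta3 _ b c) (g := fun b => trip (word _) (word b) (word c))
    (fun x y => h2 _ x y c) (fun x y => by simp only [word_add, trip_add₂]) (fun j => ?_) b
  exact eq_of_units (f := fun c => theta3 _ _ c) (g := fun c => trip (word _) (word _) (word c))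
    (fun x y => h3 _ _ x y) (fun x y => by simp only [word_add, trip_add₃]) (fun k => theta3_units i j k) c

/-- The quadratic form in natural numbers. -/
def quadNat (ms : List ℕ) (n : ℕ) : ℕ :=
  ((List.range 12).map fun l => if n.testBit l then pc (n &&& (ms.getD l 0 % 4096)) else 0).sum

theorem bit_sum_range (n : ℕ) : (pc (n % 4096) : ZMod 2) = ∑ m : Fin 12, bit n m := by
  rw [← wordOf_sum _ (lt_of_lt_of_le (Nat.mod_lt _ (by norm_num)) (by norm_num))]
  have h : ∀ p : GolayPt, wordOf (n % 4096) p = if idx p < 12 then bit n (idx p) else 0 := by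
    intro p
    have e : n % 4096 = n % 2 ^ 12 := by norm_num
    simp only [wordOf, bit, e, Nat.testBit_mod_two_pow]
    by_cases hp : idx p < 12 <;> simp [hp]
  simp only [h]
  rw [← Finset.sum_filter]
  refine Finset.sum_bij (fun p hp => (⟨idx p, (Finset.mem_filter.1 hp).2⟩ : Fin 12))
    (fun _ _ => Finset.mem_univ _) (fun a _ b _ e => idx_injective (congrArg Fin.val e))
    (fun m _ => ⟨pt m, by simp [idx_pt (show (m : ℕ) < 24 from lt_trans m.2 (by norm_num))],
      by simp [idx_pt (show (m : ℕ) < 24 from lt_trans m.2 (by norm_num))]⟩) (fun _ _ => rfl)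

theorem quadNat_cast (ms : List ℕ) (n : ℕ) (hn : n < 4096) :
    (quadNat ms n : ZMod 2) = quad ms (vec n) := by
  rw [quadNat, quad, Nat.cast_list_sum, List.map_map]
  rw [show ((List.range 12).map (Nat.cast ∘ fun l =>
      if n.testBit l then pc (n &&& (ms.getD l 0 % 4096)) else 0)).sum =
      ∑ l : Fin 12, ((if n.testBit l then pc (n &&& (ms.getD l 0 % 4096)) else 0 : ℕ) : ZMod 2) from by
    simp [Fin.sum_univ_succ, List.range_succ]]
  refine Finset.sum_congr rfl fun l _ => ?_
  have e : ∀ m : Fin 12, bit (n &&& ms.getD l 0) m = vec n m * bit (ms.getD l 0) m := fun m => by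
    simp only [vec, bit, Nat.testBit_and]
    cases n.testBit m <;> cases (ms.getD l 0).testBit m <;> simp
  have e2 : n &&& (ms.getD l 0 % 4096) = (n &&& ms.getD l 0) % 4096 := by
    rw [show (4096 : ℕ) = 2 ^ 12 by norm_num, Nat.and_mod_two_pow, Nat.mod_eq_of_lt (show n < 2 ^ 12 by simpa using hn)]
  simp only [vec, bit]
  split_ifs with hb
  · rw [e2, bit_sum_range]
    refine Finset.sum_congr rfl fun m _ => ?_
    rw [e, one_mul]
    rfl
  · simp

end Cfsg.Agent.TwoGroups.GolayExtension
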