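import Mathlib
import Cfsg.Prelude.Def_Spor_Mathieu
import Cfsg.Agent.TwoGroups.GolayExtension.Loop
import Cfsg.Agent.TwoGroups.MathieuTriples.Main

/-!
# Loop automorphisms lying over `M23`

The pairs `(σ, f)` with `σ ∈ M23` and `f` an automorphism of the loop inducing `σ` on the code form a
group mapping onto `M23` with kernel the cocode.
-/

set_option autoImplicit false
set_option maxRecDepth 20000

open Cfsg Cfsg.Agent.Golay

namespace Cfsg.Agent.TwoGroups.GolayExtension

/-- The elements of the loop. -/
abbrev LoopPt : Type := Coord × ZMod 2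

/-- The product of the loop. -/
def lmul (a b : LoopPt) : LoopPt := (a.1 + b.1, a.2 + b.2 + theta a.1 b.1)

/-- Pairs of a permutation in `M23` and an automorphism of the loop inducing it. -/
def cover : Subgroup (Equiv.Perm GolayPt × Equiv.Perm LoopPt) where
  carrier := {g | g.1 ∈ Cfsg.Spor.M23 ∧ (∀ a, word (g.2 a).1 = word a.1 ∘ ⇑(g.1⁻¹)) ∧
    ∀ a b, g.2 (lmul a b) = lmul (g.2 a) (g.2 b)}
  one_mem' := ⟨one_mem _, fun a => rfl, fun a b => rfl⟩
  mul_mem' := fun {g h} hg hh => ⟨mul_mem hg.1 hh.1,
    fun a => by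
      show word (g.2 (h.2 a)).1 = word a.1 ∘ ⇑((g.1 * h.1)⁻¹)
      rw [hg.2.1, hh.2.1, mul_inv_rev]
      rfl,
    fun a b => by
      show g.2 (h.2 (lmul a b)) = lmul (g.2 (h.2 a)) (g.2 (h.2 b))
      rw [hh.2.2, hg.2.2]⟩
  inv_mem' := fun {g} hg => ⟨inv_mem hg.1,
    fun a => by
      show word (g.2.symm a).1 = word a.1 ∘ ⇑((g.1⁻¹)⁻¹)
      have h := hg.2.1 (g.2.symm a)
      rw [Equiv.apply_symm_apply] at h
      rw [inv_inv, h]
      funext p
      simp [Function.comp],
    fun a b => by
      show g.2.symm (lmul a b) = lmul (g.2.symm a) (g.2.symm b)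
      rw [Equiv.symm_apply_eq, hg.2.2, Equiv.apply_symm_apply, Equiv.apply_symm_apply]⟩

/-- The projection to `M23`. -/
def proj : cover →* Cfsg.Spor.M23 :=
  ((MonoidHom.fst _ _).comp cover.subtype).codRestrict _ fun g => g.2.1

theorem proj_coe (g : cover) : (proj g : Equiv.Perm GolayPt) = g.1.1 := rfl

/-- The translation of the loop by a functional on the code. -/
def deltaPerm (w : GolayPt → ZMod 2) : Equiv.Perm LoopPt where
  toFun a := (a.1, a.2 + dot w (word a.1))
  invFun a := (a.1, a.2 - dot w (word a.1))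
  left_inv a := by simp
  right_inv a := by simp

theorem deltaPerm_apply (w : GolayPt → ZMod 2) (a : LoopPt) :
    deltaPerm w a = (a.1, a.2 + dot w (word a.1)) := rfl

theorem delta_mem (w : GolayPt → ZMod 2) : ((1 : Equiv.Perm GolayPt), deltaPerm w) ∈ cover :=
  ⟨one_mem _, fun a => by rw [deltaPerm_apply]; rfl, fun a b => by
    simp only [deltaPerm_apply, lmul, word_add, dot_add_right, Prod.mk.injEq, true_and]
    abel⟩

/-- The kernel elements, as a homomorphism. -/
def delta : (GolayPt → ZMod 2) →+ Additive cover :=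
  AddMonoidHom.mk' (fun w => Additive.ofMul ⟨(1, deltaPerm w), delta_mem w⟩) fun v w => by
    refine Additive.toMul.injective (Subtype.ext (Prod.ext (one_mul _).symm (Equiv.ext fun a => ?_)))
    show (a.1, a.2 + dot (v + w) (word a.1)) = deltaPerm v (deltaPerm w a)
    rw [dot_add_left, deltaPerm_apply, deltaPerm_apply]
    refine Prod.ext rfl ?_
    show a.2 + (dot v (word a.1) + dot w (word a.1)) = a.2 + dot w (word a.1) + dot v (word a.1)
    abel

/-- The kernel element of a word. -/
def deltaEl (w : GolayPt → ZMod 2) : cover := (delta w).toMul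

theorem deltaEl_fst (w : GolayPt → ZMod 2) : (deltaEl w).1.1 = 1 := rfl

theorem deltaEl_snd (w : GolayPt → ZMod 2) (a : LoopPt) :
    (deltaEl w).1.2 a = (a.1, a.2 + dot w (word a.1)) := rfl

theorem delta_eq_iff (v w : GolayPt → ZMod 2) : deltaEl v = deltaEl w ↔ v + w ∈ golayCode := by
  constructor
  · refine fun h => mem_code_of_orth fun a => ?_
    have := congrArg (fun g : cover => (g.1.2 (a, 0)).2) h
    simp only [deltaEl_snd, zero_add] at this
    rw [dot_add_left, this]
    exact CharTwo.add_self_eq_zero _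
  · intro h
    refine Subtype.ext (Prod.ext rfl (Equiv.ext fun a => ?_))
    rw [deltaEl_snd, deltaEl_snd]
    refine Prod.ext rfl ?_
    have e : dot v (word a.1) + dot w (word a.1) = 0 := by
      rw [← dot_add_left]
      exact self_orthogonal h (word_mem a.1)
    rw [CharTwo.add_eq_zero.1 e]

theorem deltaEl_conj (g : cover) (w : GolayPt → ZMod 2) :
    g * deltaEl w * g⁻¹ = deltaEl (w ∘ ⇑((proj g : Equiv.Perm GolayPt)⁻¹)) := by
  rw [mul_inv_eq_iff_eq_mul]
  refine Subtype.ext (Prod.ext (by simp [deltaEl_fst]) (Equiv.ext fun a => ?_))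
  show g.1.2 (a.1, a.2 + dot w (word a.1)) = deltaPerm _ (g.1.2 a)
  rw [deltaPerm_apply]
  have hsplit : ∀ x : ZMod 2, g.1.2 (a.1, a.2 + x) = lmul (g.1.2 a) (g.1.2 (0, x)) := fun x => by
    rw [← g.2.2.2]
    simp [lmul, theta_zero_right]
  have hzero : ∀ x : ZMod 2, (g.1.2 (0, x)).1 = 0 := fun x => word_injective (by
    rw [g.2.2.1, word_zero]
    rfl)
  have h00 : g.1.2 (0, 0) = (0, 0) := by
    refine Prod.ext (hzero 0) ?_
    have h := congrArg Prod.snd (g.2.2.2 (0, 0) (0, 0))
    simp only [lmul, hzero, theta_zero_right, add_zero] at h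
    rw [h]
    exact CharTwo.add_self_eq_zero _
  have hid : ∀ x : ZMod 2, g.1.2 (0, x) = (0, x) := by
    have key : ∀ x : ZMod 2, x = 0 ∨ x = 1 := by decide
    intro x
    rcases key x with rfl | rfl
    · exact h00
    · refine Prod.ext (hzero 1) ((key _).resolve_left fun e => ?_)
      have h1 : g.1.2 (0, 1) = g.1.2 (0, 0) := by rw [h00]; exact Prod.ext (hzero 1) e
      simpa using congrArg Prod.snd (g.1.2.injective h1)
  rw [hsplit, hid]
  simp only [lmul, theta_zero_right, add_zero, Prod.mk.injEq, true_and]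
  rw [g.2.2.1]
  refine congrArg (fun x => (g.1.2 a).2 + x) ?_
  exact (Equiv.sum_comp (g.1.1⁻¹) fun p => w p * word a.1 p).symm

theorem mem_ker_proj {g : cover} (h : proj g = 1) : ∃ w, g = deltaEl w := by
  have h1 : g.1.1 = 1 := congrArg Subtype.val h
  have hfst : ∀ a : LoopPt, (g.1.2 a).1 = a.1 := fun a => word_injective (by
    rw [g.2.2.1, h1]
    rfl)
  have hmul := g.2.2.2
  set q : Coord → ZMod 2 := fun v => (g.1.2 (v, 0)).2 with hq
  have hadd : ∀ a b, q (a + b) = q a + q b := by
    intro a b
    have hx : ∀ x : ZMod 2, (g.1.2 (0, x)).2 = x := by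
      have key : ∀ x : ZMod 2, x = 0 ∨ x = 1 := by decide
      have h0 : (g.1.2 (0, 0)).2 = 0 := by
        have h := congrArg Prod.snd (hmul (0, 0) (0, 0))
        simp only [lmul, hfst, theta_zero_right, add_zero] at h
        rw [h]
        exact CharTwo.add_self_eq_zero _
      intro x
      rcases key x with rfl | rfl
      · exact h0
      · refine (key _).resolve_left fun e => ?_
        have h1 : g.1.2 (0, 1) = g.1.2 (0, 0) := Prod.ext (by rw [hfst, hfst]) (e.trans h0.symm)
        simpa using congrArg Prod.snd (g.1.2.injective h1)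
    have hsum := congrArg Prod.snd (hmul (a, 0) (b, 0))
    simp only [lmul, hfst, zero_add] at hsum
    have hs : ∀ x : ZMod 2, (g.1.2 (a + b, x)).2 = q (a + b) + x := by
      intro x
      have h := congrArg Prod.snd (hmul (a + b, 0) (0, x))
      simp only [lmul, hfst, hx, theta_zero_right, add_zero, zero_add] at h
      exact h
    rw [hs] at hsum
    exact add_right_cancel hsum
  set w : GolayPt → ZMod 2 := fun p => if hp : idx p < 12 then q (Pi.single ⟨idx p, hp⟩ 1) else 0
  have hw : ∀ v, dot w (word v) = q v := by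
    refine eq_of_units (fun a b => by rw [word_add, dot_add_right]) hadd fun k => ?_
    rw [dot, Finset.sum_eq_single (pt k)]
    · have e : idx (pt k) = k := idx_pt (lt_trans k.2 (by norm_num))
      have hk : idx (pt k) < 12 := by rw [e]; exact k.2
      simp only [w, dif_pos hk, word_low, if_true, mul_one]
      congr 1
      exact congrArg (fun i => (Pi.single i 1 : Coord)) (Fin.ext e)
    · intro p _ hp
      by_cases hp2 : idx p < 12
      · have := word_low k ⟨idx p, hp2⟩
        simp only [pt_idx] at this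
        rw [this, if_neg, mul_zero]
        intro e
        exact hp (by rw [← pt_idx p, e])
      · simp [w, hp2]
    · simp
  refine ⟨w, Subtype.ext (Prod.ext h1 (Equiv.ext fun a => ?_))⟩
  rw [deltaEl_snd, hw]
  refine Prod.ext (hfst a) ?_
  have hx2 : (g.1.2 (0, a.2)).2 = a.2 := by
    have key : ∀ x : ZMod 2, x = 0 ∨ x = 1 := by decide
    have h0 : q 0 = 0 := by
      have := hadd 0 0
      rw [add_zero] at this
      simpa using this
    rcases key a.2 with e | e <;> rw [e]
    · exact h0
    · refine (key _).resolve_left fun e' => ?_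
      have h2 : g.1.2 (0, 1) = g.1.2 (0, 0) := Prod.ext (by rw [hfst, hfst]) (e'.trans h0.symm)
      simpa using congrArg Prod.snd (g.1.2.injective h2)
  have h := congrArg Prod.snd (hmul (a.1, 0) (0, a.2))
  simp only [lmul, hfst, hx2, theta_zero_right, add_zero, zero_add] at h
  rw [h, add_comm]

end Cfsg.Agent.TwoGroups.GolayExtension
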