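import Mathlib
import Cfsg.Agent.TwoGroups.GolayExtension.Cover

/-!
# A non-split extension of the cocode by `M23`

Two lifts of generators give surjectivity; five closed words with starting code words show that
no choice of lifts satisfies the relations, even modulo the functional of the extra point.
-/

set_option autoImplicit false
set_option maxRecDepth 20000

open Cfsg Cfsg.Agent.Golay Cfsg.Agent.TwoGroups.MathieuTriples

namespace Cfsg.Agent.TwoGroups.GolayExtension

/-- The codes of the generators. -/
def genCode : Bool → ℕ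
  | false => shiftCode
  | true => cubeTwistCode

/-- The matrix of a generator, in natural numbers. -/
def sMap (g : Bool) (n : ℕ) : ℕ := encAux (genMat g) n

/-- The matrix of a generator. -/
def sLin (g : Bool) (v : Coord) : Coord := ∑ k : Fin 12, v k • vec ((genMat g).getD k 0)

theorem sLin_add (g : Bool) (a b : Coord) : sLin g (a + b) = sLin g a + sLin g b := by
  simp only [sLin, Pi.add_apply, add_smul, Finset.sum_add_distrib]

theorem genMat_ok : ∀ g : Bool, isAut (genCode g) = true ∧ app (genCode g) 23 = 23 ∧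
    (∀ k : Fin 12, vec (sMap g (2 ^ (k : ℕ))) = sLin g (Pi.single k 1)) ∧
    (∀ k : Fin 12, sMap g (2 ^ (k : ℕ)) < 4096) ∧
    (genMat g).all (fun r => decide (r < 4096)) = true ∧
    (∀ k : Fin 12, ((List.range 24).all fun i =>
      (encode (sMap g (2 ^ (k : ℕ)))).testBit (app (genCode g) i) ==
        (encode (2 ^ (k : ℕ))).testBit i) = true) := by
  decide +kernel

theorem sMap_lt (g : Bool) (n : ℕ) : sMap g n < 4096 := by
  have hr : ∀ r ∈ genMat g, r < 2 ^ 12 := fun r hr => by
    simpa using List.all_eq_true.1 (genMat_ok g).2.2.2.2.1 r hr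
  have : ∀ (l : List ℕ), (∀ r ∈ l, r < 2 ^ 12) → ∀ i, encAux l i < 2 ^ 12 := by
    intro l
    induction l with
    | nil => intro _ i; simp [encAux]
    | cons r rs ih =>
      intro h i
      refine Nat.xor_lt_two_pow ?_ (ih (fun x hx => h x (by simp [hx])) _)
      cases (i % 2 == 1)
      · simp
      · simpa using h r (by simp)
  simpa [sMap] using this _ hr n

theorem vec_sMap (g : Bool) {n : ℕ} (hn : n < 4096) : vec (sMap g n) = sLin g (vec n) :=
  eq_of_powers (f := fun n => vec (sMap g n)) (g := fun n => sLin g (vec n))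
    (fun a b => by simp only [sMap, encAux_xor, vec_xor])
    (fun a b => by simp only [vec_xor, sLin_add])
    (fun k hk => by
      have := (genMat_ok g).2.2.1 ⟨k, hk⟩
      simp only at this
      show vec (sMap g (2 ^ k)) = sLin g (vec (2 ^ k))
      rw [this]
      exact congrArg (sLin g) (vec_pow ⟨k, hk⟩).symm) hn

/-- The permutation of a generator. -/
noncomputable def genPerm (g : Bool) : Equiv.Perm GolayPt := permOf (genCode g)

theorem genPerm_mem (g : Bool) : genPerm g ∈ Cfsg.Spor.M23 :=
  permOf_mem_M23 (genMat_ok g).1 (genMat_ok g).2.1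

theorem word_sLin (g : Bool) (v : Coord) : word (sLin g v) = word v ∘ ⇑(genPerm g)⁻¹ := by
  refine eq_of_units (f := fun v => word (sLin g v)) (g := fun v => word v ∘ ⇑(genPerm g)⁻¹)
    (fun a b => by simp only [sLin_add, word_add]) (fun a b => by simp only [word_add]; rfl)
    (fun k => ?_) v
  funext p
  obtain ⟨q, rfl⟩ := (genPerm g).surjective p
  simp only [Function.comp, Equiv.Perm.inv_def, Equiv.symm_apply_apply]
  have hk : (2 : ℕ) ^ (k : ℕ) < 4096 :=
    lt_of_lt_of_le (Nat.pow_lt_pow_right (by norm_num) k.2) (by norm_num : 2 ^ 12 ≤ 4096)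
  rw [← (genMat_ok g).2.2.1 k, word_vec ((genMat_ok g).2.2.2.1 k), ← vec_pow, word_vec hk]
  have h := List.all_eq_true.1 ((genMat_ok g).2.2.2.2.2 k) (idx q) (List.mem_range.2 (idx_lt q))
  simp only [beq_iff_eq] at h
  simp only [wordOf, genPerm, idx_permOf (permOK_of_isAut (genMat_ok g).1), h]

/-- The bilinear defect of a generator. -/
def defect (g : Bool) (a b : Coord) : ZMod 2 := theta (sLin g a) (sLin g b) + theta a b

theorem defect_add_right (g : Bool) (a b b' : Coord) :
    defect g a (b + b') = defect g a b + defect g a b' := by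
  simp only [defect, sLin_add, theta_add_right]
  abel

theorem defect_add_left (g : Bool) (a a' b : Coord) :
    defect g (a + a') b = defect g a b + defect g a' b := by
  have ht : theta3 (sLin g a) (sLin g a') (sLin g b) = theta3 a a' b := by
    simp only [theta3_eq, word_sLin, trip]
    exact Equiv.sum_comp (genPerm g)⁻¹ fun p => word a p * word a' p * word b p
  simp only [defect, sLin_add, theta_add_left, ht]
  have : ∀ x : ZMod 2, x + x = 0 := by decide
  linear_combination (this (theta3 a a' b))

theorem defect_basis : ∀ (g : Bool) (i j : Fin 12),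
    defect g (vec (2 ^ (i : ℕ))) (vec (2 ^ (j : ℕ))) =
      polar (genQuad g) (vec (2 ^ (i : ℕ))) (vec (2 ^ (j : ℕ))) := by
  decide +kernel

theorem defect_eq (g : Bool) (a b : Coord) : defect g a b = polar (genQuad g) a b := by
  refine eq_of_units (f := fun a => defect g a b) (g := fun a => polar (genQuad g) a b)
    (fun x y => defect_add_left g x y b) (fun x y => polar_add_left _ x y b) (fun i => ?_) a
  refine eq_of_units (f := fun b => defect g _ b) (g := fun b => polar (genQuad g) _ b)
    (fun x y => defect_add_right g _ x y) (fun x y => polar_add_right _ _ x y) (fun j => ?_) b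
  simpa only [vec_pow] using defect_basis g i j

theorem sLin_injective (g : Bool) : Function.Injective (sLin g) := fun a b h => word_injective (by
  have := congrArg word h
  rw [word_sLin, word_sLin] at this
  exact (Function.Surjective.injective_comp_right (genPerm g)⁻¹.surjective) this)

/-- The automorphism of the loop over a generator. -/
noncomputable def genLift (g : Bool) : Equiv.Perm LoopPt :=
  Equiv.ofBijective (fun a => (sLin g a.1, a.2 + quad (genQuad g) a.1))
    ((Finite.injective_iff_bijective).1 fun a b h => by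
      simp only [Prod.mk.injEq] at h
      have e := sLin_injective g h.1
      refine Prod.ext e ?_
      have := h.2
      rw [e] at this
      exact add_right_cancel this)

theorem genLift_apply (g : Bool) (a : LoopPt) :
    genLift g a = (sLin g a.1, a.2 + quad (genQuad g) a.1) := rfl

theorem genLift_mem (g : Bool) : (genPerm g, genLift g) ∈ cover :=
  ⟨genPerm_mem g, fun a => word_sLin g a.1, fun a b => by
    simp only [genLift_apply, lmul, sLin_add, quad_add, Prod.mk.injEq, true_and,
      ← defect_eq g a.1 b.1, defect]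
    have : ∀ x : ZMod 2, x + x = 0 := by decide
    linear_combination (this (theta a.1 b.1))⟩

/-- The lift of a generator. -/
noncomputable def genEl (g : Bool) : cover := ⟨_, genLift_mem g⟩

theorem proj_surjective : Function.Surjective proj := by
  rw [← MonoidHom.range_eq_top]
  refine Subgroup.map_injective Cfsg.Spor.M23.subtype_injective ?_
  rw [← MonoidHom.range_eq_map Cfsg.Spor.M23.subtype, Subgroup.range_subtype]
  exact eq_M23 _ (Subgroup.map_subtype_le _) ⟨proj (genEl false), ⟨_, rfl⟩, rfl⟩
    ⟨proj (genEl true), ⟨_, rfl⟩, rfl⟩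

/-- The functional of the extra point. -/
def extraWord : GolayPt → ZMod 2 := Pi.single none 1

/-- The central subgroup of the functional of the extra point. -/
def extraZ : Subgroup cover :=
  (AddMonoidHom.toMultiplicativeLeft
    (delta.comp (AddMonoidHom.mk' (fun a : ZMod 2 => a • extraWord) fun a b => add_smul a b _))).range

theorem mem_extraZ {g : cover} : g ∈ extraZ ↔ ∃ a : ZMod 2, g = deltaEl (a • extraWord) := by
  constructor
  · rintro ⟨a, rfl⟩
    exact ⟨Multiplicative.toAdd a, rfl⟩
  · rintro ⟨a, rfl⟩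
    exact ⟨Multiplicative.ofAdd a, rfl⟩

instance extraZ_normal : extraZ.Normal := ⟨fun x hx g => by
  obtain ⟨a, rfl⟩ := mem_extraZ.1 hx
  refine mem_extraZ.2 ⟨a, ?_⟩
  rw [deltaEl_conj]
  congr 1
  have hfix : (proj g : Equiv.Perm GolayPt) none = none := (proj g).2.2
  funext p
  simp only [Function.comp, Pi.smul_apply, extraWord, Pi.single_apply, Equiv.Perm.inv_def,
    Equiv.symm_apply_eq, hfix]⟩

theorem extraZ_le_ker : extraZ ≤ proj.ker := fun x hx => by
  obtain ⟨a, rfl⟩ := mem_extraZ.1 hx
  show proj (deltaEl (a • extraWord)) = 1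
  exact Subtype.ext (deltaEl_fst (a • extraWord))

/-- The extension. -/
abbrev Ext : Type := cover ⧸ extraZ

/-- The map onto `M23`. -/
noncomputable def extProj : Ext →* Cfsg.Spor.M23 := QuotientGroup.lift extraZ proj extraZ_le_ker

theorem extProj_mk (g : cover) : extProj (QuotientGroup.mk g) = proj g := rfl

theorem extProj_surjective : Function.Surjective extProj := fun x => by
  obtain ⟨g, rfl⟩ := proj_surjective x
  exact ⟨QuotientGroup.mk g, rfl⟩

theorem deltaEl_mem_ker (w : GolayPt → ZMod 2) :
    (QuotientGroup.mk (deltaEl w) : Ext) ∈ extProj.ker :=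
  Subtype.ext (deltaEl_fst w)

theorem deltaEl_add (v w : GolayPt → ZMod 2) : deltaEl (v + w) = deltaEl v * deltaEl w := by
  rw [deltaEl, deltaEl, deltaEl, map_add, toMul_add]

/-- The class of a kernel element. -/
noncomputable def cocodeEl (w : GolayPt → ZMod 2) : ↥extProj.ker :=
  ⟨QuotientGroup.mk (deltaEl w), deltaEl_mem_ker w⟩

theorem cocodeEl_add (v w : GolayPt → ZMod 2) : cocodeEl (v + w) = cocodeEl v * cocodeEl w :=
  Subtype.ext (by
    simp only [cocodeEl, Subgroup.coe_mul]
    rw [deltaEl_add, QuotientGroup.mk_mul])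

/-- The map of all words onto the kernel. -/
noncomputable def cocode : (GolayPt → ZMod 2) →+ Additive ↥extProj.ker :=
  AddMonoidHom.mk' (fun w => Additive.ofMul (cocodeEl w)) fun v w => by
    rw [cocodeEl_add, ofMul_mul]

theorem cocode_surjective : Function.Surjective cocode := fun y => by
  obtain ⟨g, hg⟩ := QuotientGroup.mk_surjective (y.toMul : Ext)
  have hk : proj g = 1 := by
    have h : extProj (y.toMul : Ext) = 1 := y.toMul.2
    rwa [← hg] at h
  obtain ⟨w, rfl⟩ := mem_ker_proj hk
  exact ⟨w, Additive.toMul.injective (Subtype.ext hg)⟩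

theorem cocode_ker (w : GolayPt → ZMod 2) :
    cocode w = 0 ↔ (w ∈ golayCode ∨ w + extraWord ∈ golayCode) := by
  have h : cocode w = 0 ↔ deltaEl w ∈ extraZ := by
    rw [← QuotientGroup.eq_one_iff]
    exact ⟨fun h => congrArg Subtype.val (congrArg Additive.toMul h),
      fun h => Additive.toMul.injective (Subtype.ext h)⟩
  rw [h, mem_extraZ]
  constructor
  · rintro ⟨a, ha⟩
    have h1 := (delta_eq_iff _ _).1 ha
    rcases (show ∀ x : ZMod 2, x = 0 ∨ x = 1 by decide) a with rfl | rfl
    · left; simpa using h1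
    · right; simpa using h1
  · rintro (h1 | h1)
    · exact ⟨0, (delta_eq_iff _ _).2 (by simpa using h1)⟩
    · exact ⟨1, (delta_eq_iff _ _).2 (by simpa using h1)⟩

theorem cocode_conj (g : Ext) (w : GolayPt → ZMod 2) :
    ((cocode (w ∘ ⇑((extProj g : Equiv.Perm GolayPt)⁻¹))).toMul : Ext) =
      g * ((cocode w).toMul : Ext) * g⁻¹ := by
  obtain ⟨x, rfl⟩ := QuotientGroup.mk_surjective g
  show (QuotientGroup.mk (deltaEl (w ∘ ⇑((proj x : Equiv.Perm GolayPt)⁻¹))) : Ext) =
    QuotientGroup.mk x * QuotientGroup.mk (deltaEl w) * (QuotientGroup.mk x)⁻¹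
  rw [← QuotientGroup.mk_inv, ← QuotientGroup.mk_mul, ← QuotientGroup.mk_mul, deltaEl_conj]

/-! ### The certificate -/

/-- One step: the current code word, the sum of the quadratic values, and the sums of the visited
code words for the two generators. -/
def stepNat (g : Bool) (s : ℕ × ℕ × ℕ × ℕ) : ℕ × ℕ × ℕ × ℕ :=
  (sMap g s.1, s.2.1 + quadNat (genQuad g) s.1, if g then s.2.2.1 else s.2.2.1 ^^^ s.1,
    if g then s.2.2.2 ^^^ s.1 else s.2.2.2)

/-- A word applied to a code word. -/
def runNat (l : List Bool) (n : ℕ) : ℕ × ℕ × ℕ × ℕ := l.foldr stepNat (n, 0, 0, 0)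

theorem cert_ok :
    (certTab.all fun e => decide (e.2 < 4096) && (runNat e.1 e.2).1 == e.2 &&
      !(encode e.2).testBit 23 &&
      (List.range 24).all fun i => e.1.foldr (fun g j => app (genCode g) j) i == i) = true ∧
    (certTab.map fun e => (runNat e.1 e.2).2.1).sum % 2 = 1 ∧
    (certTab.map fun e => vec (runNat e.1 e.2).2.2.1).sum = 0 ∧
    (certTab.map fun e => vec (runNat e.1 e.2).2.2.2).sum = 0 := by
  decide +kernel

/-- Lifts altered by kernel elements. -/
noncomputable def altLift (w : Bool → GolayPt → ZMod 2) (g : Bool) : cover := genEl g * deltaEl (w g)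

theorem altLift_apply (w : Bool → GolayPt → ZMod 2) (g : Bool) (a : LoopPt) :
    (altLift w g).1.2 a = (sLin g a.1, a.2 + dot (w g) (word a.1) + quad (genQuad g) a.1) := by
  show genLift g ((deltaEl (w g)).1.2 a) = _
  rw [deltaEl_snd, genLift_apply]

theorem run_spec (w : Bool → GolayPt → ZMod 2) (l : List Bool) {n : ℕ} (hn : n < 4096) :
    (runNat l n).1 < 4096 ∧ ((l.map (altLift w)).prod).1.2 (vec n, 0) =
      (vec (runNat l n).1, ((runNat l n).2.1 : ZMod 2) +
        dot (w false) (word (vec (runNat l n).2.2.1)) + dot (w true) (word (vec (runNat l n).2.2.2))) := by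
  induction l with
  | nil =>
    refine ⟨hn, ?_⟩
    show (vec n, (0 : ZMod 2)) = (vec n, ((0 : ℕ) : ZMod 2) + dot (w false) (word (vec 0)) +
      dot (w true) (word (vec 0)))
    simp [vec_zero, word_zero, dot]
  | cons g l ih =>
    obtain ⟨hlt, e⟩ := ih
    refine ⟨sMap_lt g _, ?_⟩
    rw [List.map_cons, List.prod_cons]
    show (altLift w g).1.2 (((l.map (altLift w)).prod).1.2 (vec n, 0)) = _
    rw [e, altLift_apply]
    simp only [show runNat (g :: l) n = stepNat g (runNat l n) from rfl, stepNat,
      vec_sMap g hlt, Nat.cast_add, quadNat_cast _ _ hlt, Prod.mk.injEq, true_and]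
    cases g <;> simp only [Bool.false_eq_true, if_false, if_true, vec_xor, word_add, dot_add_right] <;>
      abel

theorem proj_word (w : Bool → GolayPt → ZMod 2) (l : List Bool) (p : GolayPt) :
    idx ((proj (l.map (altLift w)).prod : Equiv.Perm GolayPt) p) =
      l.foldr (fun g j => app (genCode g) j) (idx p) := by
  induction l with
  | nil => rfl
  | cons g l ih =>
    rw [List.map_cons, List.prod_cons, map_mul, Subgroup.coe_mul, Equiv.Perm.mul_apply, List.foldr_cons,
      ← ih]
    have e : (proj (altLift w g) : Equiv.Perm GolayPt) = genPerm g := by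
      show genPerm g * (deltaEl (w g)).1.1 = genPerm g
      rw [deltaEl_fst, mul_one]
    rw [e, genPerm, idx_permOf (permOK_of_isAut (genMat_ok g).1)]

/-- The extension does not split. -/
theorem not_split (H : Subgroup Ext) (hinf : H ⊓ extProj.ker = ⊥) : H ⊔ extProj.ker ≠ ⊤ := by
  intro hsup
  have hmap : H.map extProj = ⊤ := by
    have h : (H ⊔ extProj.ker).map extProj = ⊤ := by
      rw [hsup, ← MonoidHom.range_eq_map]
      exact MonoidHom.range_eq_top.2 extProj_surjective
    rwa [Subgroup.map_sup, (Subgroup.map_eq_bot_iff _).2 le_rfl, sup_bot_eq] at h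
  have hlift : ∀ g : Bool, ∃ v, (QuotientGroup.mk (genEl g * deltaEl v) : Ext) ∈ H := by
    intro g
    obtain ⟨e, he, heq⟩ : proj (genEl g) ∈ H.map extProj := hmap ▸ Subgroup.mem_top _
    obtain ⟨y, rfl⟩ := QuotientGroup.mk_surjective e
    rw [extProj_mk] at heq
    obtain ⟨v, hv⟩ := mem_ker_proj (g := (genEl g)⁻¹ * y) (by rw [map_mul, map_inv, heq, inv_mul_cancel])
    exact ⟨v, by rwa [← hv, mul_inv_cancel_left]⟩
  choose w hw using hlift
  obtain ⟨hall, hq, h0, h1⟩ := cert_ok
  have hzero : ∀ e ∈ certTab, ((runNat e.1 e.2).2.1 : ZMod 2) +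
      dot (w false) (word (vec (runNat e.1 e.2).2.2.1)) +
      dot (w true) (word (vec (runNat e.1 e.2).2.2.2)) = 0 := by
    intro e he
    have h := List.all_eq_true.1 hall e he
    simp only [Bool.and_eq_true, decide_eq_true_eq, beq_iff_eq, Bool.not_eq_true',
      List.all_eq_true, List.mem_range] at h
    obtain ⟨⟨⟨hn, -⟩, hb⟩, hperm⟩ := h
    set P : cover := (e.1.map (altLift w)).prod with hP
    have hH : (QuotientGroup.mk P : Ext) ∈ H := by
      rw [hP, ← QuotientGroup.mk'_apply, map_list_prod]
      refine list_prod_mem fun x hx => ?_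
      simp only [List.mem_map] at hx
      obtain ⟨y, ⟨g, -, rfl⟩, rfl⟩ := hx
      exact hw g
    have hker : (QuotientGroup.mk P : Ext) ∈ extProj.ker := by
      refine Subtype.ext (Equiv.ext fun p => idx_injective ?_)
      show idx ((proj P : Equiv.Perm GolayPt) p) = idx p
      rw [hP, proj_word, hperm _ (idx_lt p)]
    have h1' : (QuotientGroup.mk P : Ext) = 1 :=
      Subgroup.mem_bot.1 (hinf ▸ Subgroup.mem_inf.2 ⟨hH, hker⟩)
    obtain ⟨a, ha⟩ := mem_extraZ.1 ((QuotientGroup.eq_one_iff P).1 h1')
    have hs := congrArg Prod.snd (run_spec w e.1 hn).2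
    rw [← hP, ha, deltaEl_snd] at hs
    simp only [zero_add] at hs
    rw [← hs, dot, Finset.sum_eq_single none]
    · rw [word_vec hn, wordOf, show idx (none : GolayPt) = 23 from rfl, hb]
      simp
    · intro p _ hp
      simp [extraWord, Pi.single_apply, hp]
    · simp
  have hd : ∀ (v : GolayPt → ZMod 2) (L : List Coord),
      (L.map fun x => dot v (word x)).sum = dot v (word L.sum) := by
    intro v L
    induction L with
    | nil => simp [word_zero, dot]
    | cons x L ih => simp [word_add, dot_add_right, ih]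
  have hsum : (certTab.map fun e => ((runNat e.1 e.2).2.1 : ZMod 2) +
      dot (w false) (word (vec (runNat e.1 e.2).2.2.1)) +
      dot (w true) (word (vec (runNat e.1 e.2).2.2.2))).sum = 0 :=
    List.sum_eq_zero fun x hx => by
      obtain ⟨e, he, rfl⟩ := List.mem_map.1 hx
      exact hzero e he
  rw [List.sum_map_add, List.sum_map_add] at hsum
  have e0 := hd (w false) (certTab.map fun e => vec (runNat e.1 e.2).2.2.1)
  have e1 := hd (w true) (certTab.map fun e => vec (runNat e.1 e.2).2.2.2)
  rw [List.map_map, h0] at e0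
  rw [List.map_map, h1] at e1
  simp only [Function.comp_def, word_zero] at e0 e1
  rw [e0, e1] at hsum
  have hc : (certTab.map fun e => ((runNat e.1 e.2).2.1 : ZMod 2)).sum = 1 := by
    have := congrArg (Nat.cast (R := ZMod 2)) hq
    rw [ZMod.natCast_mod, Nat.cast_list_sum, List.map_map] at this
    simpa [Function.comp_def] using this
  rw [hc] at hsum
  simp [dot] at hsum

/-- A finite group with the stated properties exists. -/
theorem exists_nonsplit :
    ∃ (E : Type) (_ : Group E) (_ : Finite E) (N : Subgroup E) (_ : N.Normal)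
      (φ : E ⧸ N ≃* ↥Cfsg.Spor.M23) (θ : (Cfsg.GolayPt → ZMod 2) →+ Additive ↥N),
      Function.Surjective θ ∧
      (∀ w : Cfsg.GolayPt → ZMod 2, θ w = 0 ↔ (w ∈ Cfsg.golayCode ∨ w + Pi.single none 1 ∈ Cfsg.golayCode)) ∧
      (∀ (g : E) (w : Cfsg.GolayPt → ZMod 2),
        ((θ (w ∘ ⇑(((φ (QuotientGroup.mk g) : ↥Cfsg.Spor.M23) : Equiv.Perm Cfsg.GolayPt)⁻¹))).toMul : E)
          = g * ((θ w).toMul : E) * g⁻¹) ∧
      ∀ H : Subgroup E, H ⊓ N = ⊥ → H ⊔ N ≠ ⊤ :=
  ⟨Ext, inferInstance, inferInstance, extProj.ker, inferInstance,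
    QuotientGroup.quotientKerEquivOfSurjective extProj extProj_surjective, cocode,
    cocode_surjective, cocode_ker, cocode_conj, not_split⟩

end Cfsg.Agent.TwoGroups.GolayExtension
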